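import Mathlib

/-!
# Semilocal smooth liftings of a smooth closed subscheme: the algebra
-/

set_option autoImplicit false
set_option linter.style.haveILetI false

universe u

open TensorProduct

namespace Groth.Agent.H19.LiftSmooth.Alg

variable {A B : Type u} [CommRing A] [CommRing B] [Algebra A B]

theorem finrank_kaehler {n : ℕ}
    (h : RingHom.Locally (RingHom.IsStandardSmoothOfRelativeDimension n) (algebraMap A B))
    (κ : Type u) [Field κ] [Algebra B κ] :
    Module.finrank κ (κ ⊗[B] Ω[B⁄A]) = n := by
  obtain ⟨s, hs, hP⟩ := h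
  obtain ⟨t, ht, ht0⟩ : ∃ t ∈ s, algebraMap B κ t ≠ 0 := by
    by_contra! hc
    have : Ideal.span s ≤ RingHom.ker (algebraMap B κ) :=
      Ideal.span_le.2 fun t ht => RingHom.mem_ker.2 (hc t ht)
    rw [hs] at this
    exact one_ne_zero (α := κ) (by simpa using RingHom.mem_ker.1 (this (Submodule.mem_top (x := 1))))
  let Bt := Localization.Away t
  letI : Algebra Bt κ := (IsLocalization.Away.lift t (isUnit_iff_ne_zero.2 ht0) : Bt →+* κ).toAlgebra
  haveI : IsScalarTower B Bt κ := .of_algebraMap_eq fun x =>
    (IsLocalization.Away.lift_eq t (isUnit_iff_ne_zero.2 ht0) x).symm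
  haveI hn : Algebra.IsStandardSmoothOfRelativeDimension n A Bt := by
    have := hP t ht
    rwa [← IsScalarTower.algebraMap_eq, RingHom.isStandardSmoothOfRelativeDimension_algebraMap] at this
  haveI : Nontrivial Bt := RingHom.domain_nontrivial (algebraMap Bt κ)
  haveI : Algebra.IsStandardSmooth A Bt := hn.isStandardSmooth
  have hr := Algebra.IsStandardSmoothOfRelativeDimension.rank_kaehlerDifferential (R := A) (S := Bt) n
  have e := (IsLocalizedModule.isBaseChange (.powers t) Bt
    (KaehlerDifferential.map A A B Bt)).equiv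
  have e' : κ ⊗[Bt] Ω[Bt⁄A] ≃ₗ[κ] κ ⊗[B] Ω[B⁄A] :=
    (AlgebraTensorModule.congr (LinearEquiv.refl κ κ) e.symm) ≪≫ₗ
      (AlgebraTensorModule.cancelBaseChange B Bt κ κ Ω[B⁄A])
  rw [← e'.finrank_eq, Module.finrank_baseChange, Module.finrank_eq_of_rank_eq hr]

variable (κ : Type u) [Field κ] [Algebra B κ]

/-- The differential modulo a point. -/
noncomputable def dκ (A : Type u) [CommRing A] [Algebra A B] (x : B) : κ ⊗[B] Ω[B⁄A] :=
  (1 : κ) ⊗ₜ KaehlerDifferential.D A B x

theorem dκ_mul (a x : B) (hx : algebraMap B κ x = 0) :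
    dκ κ A (a * x) = algebraMap B κ a • dκ κ A x := by
  unfold dκ
  rw [Derivation.leibniz, TensorProduct.tmul_add,
    ← TensorProduct.smul_tmul x (1 : κ) (KaehlerDifferential.D A B a), Algebra.smul_def x (1 : κ),
    hx, zero_mul, TensorProduct.zero_tmul, add_zero, ← TensorProduct.smul_tmul,
    TensorProduct.smul_tmul', Algebra.smul_def, smul_eq_mul]

theorem dκ_add (x y : B) : dκ κ A (x + y) = dκ κ A x + dκ κ A y := by
  simp [dκ, TensorProduct.tmul_add]

section span

variable {A' C : Type u} [CommRing A'] [CommRing C] [Algebra A A'] [Algebra A C] [Algebra B C]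
  [Algebra A' C] [IsScalarTower A B C] [IsScalarTower A A' C] [Algebra C κ] [IsScalarTower B C κ]

theorem finrank_span (hA : Function.Surjective (algebraMap A A'))
    (hB : Function.Surjective (algebraMap B C)) {n e : ℕ}
    (hn : RingHom.Locally (RingHom.IsStandardSmoothOfRelativeDimension n) (algebraMap A B))
    (he : RingHom.Locally (RingHom.IsStandardSmoothOfRelativeDimension e) (algebraMap A' C)) :
    Module.finrank κ (Submodule.span κ (dκ κ A '' {x | algebraMap B C x = 0})) + e = n := by
  set N := Submodule.span κ (dκ κ A '' {x | algebraMap B C x = 0}) with hN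
  let f : Ω[B⁄A] →ₗ[B] κ ⊗[C] Ω[C⁄A'] :=
    ((TensorProduct.mk C κ Ω[C⁄A'] 1).restrictScalars B).comp (KaehlerDifferential.map A A' B C)
  let ψ : κ ⊗[B] Ω[B⁄A] →ₗ[κ] κ ⊗[C] Ω[C⁄A'] := LinearMap.liftBaseChange κ f
  have hψ : ∀ x : B, ψ (dκ κ A x) = (1 : κ) ⊗ₜ KaehlerDifferential.D A' C (algebraMap B C x) := by
    intro x
    simp [ψ, f, dκ, KaehlerDifferential.map_D]
  have hψs : Function.Surjective ψ := by
    rw [← LinearMap.range_eq_top, eq_top_iff]
    rintro y -
    induction y using TensorProduct.induction_on with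
    | zero => exact zero_mem _
    | add a b ha hb => exact add_mem ha hb
    | tmul a w =>
      have hw : w ∈ Submodule.span C (Set.range (KaehlerDifferential.D A' C)) := by
        rw [KaehlerDifferential.span_range_derivation]; exact Submodule.mem_top
      suffices H : ((1 : κ) ⊗ₜ[C] w) ∈ LinearMap.range ψ by
        have e1 : a • ((1 : κ) ⊗ₜ[C] w) = a ⊗ₜ[C] w := by
          rw [TensorProduct.smul_tmul', smul_eq_mul, mul_one]
        rw [← e1]; exact Submodule.smul_mem _ _ H
      induction hw using Submodule.span_induction with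
      | mem z hz =>
        obtain ⟨c, rfl⟩ := hz
        obtain ⟨x, rfl⟩ := hB c
        exact ⟨_, hψ x⟩
      | zero => rw [TensorProduct.tmul_zero]; exact zero_mem _
      | add _ _ _ _ ha hb => rw [TensorProduct.tmul_add]; exact add_mem ha hb
      | smul c z _ hz =>
        rw [TensorProduct.tmul_smul, ← algebraMap_smul κ c]
        exact Submodule.smul_mem _ _ hz
  have hker : LinearMap.ker ψ = N := by
    refine le_antisymm ?_ ?_
    · let q : B → (κ ⊗[B] Ω[B⁄A]) ⧸ N := fun x => N.mkQ (dκ κ A x)
      have hq0 : ∀ x, algebraMap B C x = 0 → q x = 0 := fun x hx =>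
        (Submodule.Quotient.mk_eq_zero N).2 (Submodule.subset_span ⟨x, hx, rfl⟩)
      have hqadd : ∀ x y, q (x + y) = q x + q y := fun x y => by simp [q, dκ_add]
      have hqe : ∀ x y, algebraMap B C x = algebraMap B C y → q x = q y := by
        intro x y hxy
        have h0 := hq0 (x - y) (by rw [map_sub, hxy, sub_self])
        have := hqadd (x - y) y
        rwa [sub_add_cancel, h0, zero_add] at this
      choose s hs using hB
      have hqmul : ∀ x y, q (x * y) = algebraMap B κ x • q y + algebraMap B κ y • q x := by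
        intro x y
        have e1 : dκ κ A (x * y) = algebraMap B κ x • dκ κ A y + algebraMap B κ y • dκ κ A x := by
          simp [dκ, Derivation.leibniz, TensorProduct.tmul_add, TensorProduct.smul_tmul',
            ← TensorProduct.smul_tmul, Algebra.smul_def]
        simp only [q, e1, map_add, map_smul]
      letI : Algebra A' κ := ((algebraMap C κ).comp (algebraMap A' C)).toAlgebra
      haveI : IsScalarTower A' C κ := .of_algebraMap_eq fun _ => rfl
      let L : C →ₗ[A'] (κ ⊗[B] Ω[B⁄A]) ⧸ N :=
        { toFun := fun c => q (s c)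
          map_add' := fun c c' => by rw [← hqadd]; exact hqe _ _ (by simp [hs])
          map_smul' := fun a c => by
            obtain ⟨a₀, rfl⟩ := hA a
            rw [RingHom.id_apply, hqe (s (algebraMap A A' a₀ • c)) (algebraMap A B a₀ * s c)
              (by simp [hs, Algebra.smul_def, ← IsScalarTower.algebraMap_apply]), hqmul]
            have : q (algebraMap A B a₀) = 0 := by simp [q, dκ]
            rw [this, smul_zero, add_zero, ← algebraMap_smul κ (algebraMap A A' a₀)]
            congr 1
            rw [IsScalarTower.algebraMap_apply B C κ, IsScalarTower.algebraMap_apply A' C κ,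
              ← IsScalarTower.algebraMap_apply A B C, ← IsScalarTower.algebraMap_apply A A' C] }
      let der : Derivation A' C ((κ ⊗[B] Ω[B⁄A]) ⧸ N) := Derivation.mk' L fun c c' => by
        change q (s (c * c')) = c • q (s c') + c' • q (s c)
        rw [hqe (s (c * c')) (s c * s c') (by simp [hs]), hqmul, IsScalarTower.algebraMap_apply B C κ,
          IsScalarTower.algebraMap_apply B C κ (s c'), hs, hs, algebraMap_smul, algebraMap_smul]
      let φ : κ ⊗[C] Ω[C⁄A'] →ₗ[κ] (κ ⊗[B] Ω[B⁄A]) ⧸ N :=
        LinearMap.liftBaseChange κ der.liftKaehlerDifferential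
      have hφ : φ ∘ₗ ψ = N.mkQ := by
        refine (TensorProduct.AlgebraTensorModule.ext fun a w => ?_)
        have hw : w ∈ Submodule.span B (Set.range (KaehlerDifferential.D A B)) := by
          rw [KaehlerDifferential.span_range_derivation]; exact Submodule.mem_top
        have e1 : a ⊗ₜ[B] w = a • ((1 : κ) ⊗ₜ[B] w) := by
          rw [TensorProduct.smul_tmul', smul_eq_mul, mul_one]
        rw [e1, map_smul, map_smul]
        congr 1
        clear e1
        induction hw using Submodule.span_induction with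
        | mem z hz =>
          obtain ⟨x, rfl⟩ := hz
          rw [LinearMap.comp_apply]
          change φ (ψ (dκ κ A x)) = N.mkQ (dκ κ A x)
          rw [hψ]
          simp only [φ, LinearMap.liftBaseChange_tmul, one_smul,
            Derivation.liftKaehlerDifferential_comp_D]
          exact hqe _ _ (hs _)
        | zero => simp
        | add z z' _ _ hz hz' => simp only [TensorProduct.tmul_add, map_add, hz, hz']
        | smul c z _ hz => rw [TensorProduct.tmul_smul, ← algebraMap_smul κ c, map_smul, map_smul, hz]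
      intro z hz
      have := LinearMap.congr_fun hφ z
      rw [LinearMap.comp_apply, LinearMap.mem_ker.1 hz, map_zero] at this
      exact (Submodule.Quotient.mk_eq_zero N).1 this.symm
    · rw [hN, Submodule.span_le]
      rintro _ ⟨x, hx, rfl⟩
      rw [SetLike.mem_coe, LinearMap.mem_ker, hψ, hx, map_zero, TensorProduct.tmul_zero]
  haveI : Module.Finite κ (κ ⊗[B] Ω[B⁄A]) := by
    obtain ⟨s, hs, hP⟩ := hn
    haveI : Algebra.FiniteType A B := by
      rw [← RingHom.finiteType_algebraMap]
      exact RingHom.locally_iff_of_localizationSpanTarget RingHom.finiteType_respectsIso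
        RingHom.finiteType_ofLocalizationSpanTarget _ |>.1 ⟨s, hs, fun t ht => by
          have := hP t ht
          rw [← IsScalarTower.algebraMap_eq, RingHom.isStandardSmoothOfRelativeDimension_algebraMap] at this
          haveI := this.isStandardSmooth
          show RingHom.FiniteType ((algebraMap B (Localization.Away t)).comp (algebraMap A B))
          rw [← IsScalarTower.algebraMap_eq, RingHom.finiteType_algebraMap]
          infer_instance⟩
    infer_instance
  have h1 := LinearMap.finrank_range_add_finrank_ker ψ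
  rw [LinearMap.range_eq_top.2 hψs, finrank_top, finrank_kaehler hn, finrank_kaehler he, hker] at h1
  omega

end span

section lift

variable {A' C : Type u} [CommRing A'] [CommRing C] [Algebra A A'] [Algebra A C] [Algebra B C]
  [Algebra A' C] [IsScalarTower A B C] [IsScalarTower A A' C]
  [Algebra.Smooth A B] (m : Ideal B) [m.IsMaximal]

attribute [local instance] Ideal.Quotient.field

variable {r : ℕ} (b : Fin r → B)
  (hli : LinearIndependent (B ⧸ m) fun j => dκ (B ⧸ m) A (b j))

include hli in
theorem exists_dual : ∃ (g : B) (l : Fin r → (Ω[B⁄A] →ₗ[B] B)), g ∉ m ∧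
    ∀ i j, l i (KaehlerDifferential.D A B (b j)) = if i = j then g else 0 := by
  classical
  let κ := B ⧸ m
  obtain ⟨μ, hμ⟩ : ∃ μ : Fin r → (κ ⊗[B] Ω[B⁄A] →ₗ[κ] κ),
      ∀ i j, μ i (dκ κ A (b j)) = if i = j then 1 else 0 := by
    obtain ⟨P, hP⟩ := (Fintype.linearCombination κ fun j => dκ κ A (b j)).exists_leftInverse_of_injective
      (LinearMap.ker_eq_bot.2 (linearIndependent_iff_injective_fintypeLinearCombination.1 hli))
    refine ⟨fun i => LinearMap.proj i ∘ₗ P, fun i j => ?_⟩
    have h1 : Fintype.linearCombination κ (fun j => dκ κ A (b j)) (Pi.single j 1) = dκ κ A (b j) := by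
      simp
    have := congrFun (LinearMap.congr_fun hP (Pi.single j 1)) i
    rw [LinearMap.comp_apply, h1] at this
    simpa [Pi.single_apply] using this
  choose l hl using fun i => Module.projective_lifting_property (R := B)
    (Submodule.mkQ m : B →ₗ[B] κ) ((μ i).restrictScalars B ∘ₗ TensorProduct.mk B κ Ω[B⁄A] 1)
    (Submodule.mkQ_surjective m)
  let M : Matrix (Fin r) (Fin r) B := Matrix.of fun i j => l i (KaehlerDifferential.D A B (b j))
  refine ⟨M.det, fun i => ∑ s, M.adjugate i s • l s, fun h => ?_, fun i j => ?_⟩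
  · have h1 : M.map (Ideal.Quotient.mk m) = 1 := by
      ext i j
      rw [Matrix.map_apply, Matrix.one_apply, ← hμ i j]
      exact LinearMap.congr_fun (hl i) _
    have h2 := congrArg Matrix.det h1
    rw [← RingHom.mapMatrix_apply, ← RingHom.map_det, Matrix.det_one,
      Ideal.Quotient.eq_zero_iff_mem.2 h] at h2
    exact zero_ne_one h2
  · have h1 := congrFun (congrFun (Matrix.adjugate_mul M) i) j
    simp only [Matrix.mul_apply, Matrix.smul_apply, Matrix.one_apply, smul_eq_mul, mul_ite, mul_one,
      mul_zero] at h1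
    simpa [LinearMap.sum_apply, M] using h1

include hli in
theorem isSmoothAt {B' : Type u} [CommRing B'] [Algebra B B'] [Algebra A B'] [IsScalarTower A B B']
    (hs : Function.Surjective (algebraMap B B'))
    (hk : RingHom.ker (algebraMap B B') = Ideal.span (Set.range b))
    (P : Ideal B') [P.IsPrime] (hP : P.comap (algebraMap B B') = m) : Algebra.IsSmoothAt A P := by
  classical
  obtain ⟨g, l, hg, hl⟩ := exists_dual m b hli
  let L := Localization.AtPrime m
  let L' := Localization.AtPrime P
  haveI : Algebra.FormallySmooth A L := by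
    haveI : Algebra.FormallyEtale B L := Algebra.FormallyEtale.of_isLocalization (m.primeCompl)
    exact Algebra.FormallySmooth.comp A B L
  have hmap : Submonoid.map (algebraMap B B') m.primeCompl = P.primeCompl := by
    ext y
    obtain ⟨x, rfl⟩ := hs y
    constructor
    · rintro ⟨z, hz, hzx⟩ hx
      exact hz (show z ∈ m by rw [← hP, Ideal.mem_comap, hzx]; exact hx)
    · exact fun hx => ⟨x, fun hxm => hx (by rw [← hP] at hxm; exact hxm), rfl⟩
  have hy : m.primeCompl ≤ P.primeCompl.comap (algebraMap B B') := by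
    rw [← Submonoid.map_le_iff_le_comap, hmap]
  let φ : L →+* L' := IsLocalization.map L' (algebraMap B B') hy
  letI : Algebra L L' := φ.toAlgebra
  haveI : IsScalarTower A L L' := .of_algebraMap_eq fun a => by
    rw [IsScalarTower.algebraMap_apply A B L, RingHom.algebraMap_toAlgebra, IsLocalization.map_eq,
      ← IsScalarTower.algebraMap_apply, ← IsScalarTower.algebraMap_apply]
  have hsurj : Function.Surjective (algebraMap L L') := by
    intro y
    obtain ⟨y, s, rfl⟩ := IsLocalization.exists_mk'_eq P.primeCompl y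
    obtain ⟨x, rfl⟩ := hs y
    obtain ⟨t, ht, hts⟩ : (s : B') ∈ Submonoid.map (algebraMap B B') m.primeCompl := by
      rw [hmap]; exact s.2
    refine ⟨IsLocalization.mk' L x ⟨t, ht⟩, ?_⟩
    rw [RingHom.algebraMap_toAlgebra, IsLocalization.map_mk']
    congr 1
    exact Subtype.ext hts
  have hker : RingHom.ker (algebraMap L L') = Ideal.span (Set.range fun j => algebraMap B L (b j)) := by
    rw [RingHom.algebraMap_toAlgebra, IsLocalization.ker_map L' _ hmap, hk, Ideal.map_span,
      ← Set.range_comp]
    rfl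
  refine (Algebra.FormallySmooth.iff_split_injection (P := L) hsurj).2 ?_
  obtain ⟨u, hu⟩ : ∃ u : L, u * algebraMap B L g = 1 :=
    ⟨_, (IsLocalization.map_units L (⟨g, hg⟩ : m.primeCompl)).val_inv_mul⟩
  have hbc : IsBaseChange L (KaehlerDifferential.map A A B L) :=
    IsLocalizedModule.isBaseChange m.primeCompl L _
  let lL : Fin r → (Ω[L⁄A] →ₗ[L] L) := fun i => hbc.lift ((Algebra.linearMap B L) ∘ₗ l i)
  have hlL : ∀ i j, u * lL i (KaehlerDifferential.D A L (algebraMap B L (b j))) =
      if i = j then 1 else 0 := by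
    intro i j
    rw [← KaehlerDifferential.map_D A A B L, hbc.lift_eq, LinearMap.comp_apply, hl,
      Algebra.linearMap_apply]
    split_ifs with hij
    · exact hu
    · rw [map_zero, mul_zero]
  have hbmem : ∀ i, algebraMap B L (b i) ∈ RingHom.ker (algebraMap L L') := fun i =>
    hker ▸ Ideal.subset_span ⟨i, rfl⟩
  let K := (RingHom.ker (algebraMap L L')).Cotangent
  let e : Fin r → K := fun i => Ideal.toCotangent _ ⟨_, hbmem i⟩
  let β : Ω[L⁄A] →ₗ[L] K := ∑ i, (u • lL i).smulRight (e i)
  have hann : ∀ c ∈ RingHom.ker (algebraMap L L'), ∀ v : K, c • v = 0 := fun c hc v => by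
    obtain ⟨⟨v, hv⟩, rfl⟩ := Ideal.toCotangent_surjective _ v
    rw [← map_smul, Ideal.toCotangent_eq_zero, pow_two]
    exact Ideal.mul_mem_mul hc hv
  let bil : L' →ₗ[L] Ω[L⁄A] →ₗ[L] K :=
    (Submodule.liftQ (RingHom.ker (algebraMap L L')) (LinearMap.toSpanSingleton L _ β)
      (fun c hc => LinearMap.ext fun ω => hann c hc (β ω))) ∘ₗ
      ((Algebra.linearMap L L').quotKerEquivOfSurjective hsurj).symm.toLinearMap
  have hbil : bil 1 = β := by
    have : ((Algebra.linearMap L L').quotKerEquivOfSurjective hsurj).symm 1 =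
        Submodule.Quotient.mk (1 : L) := by
      rw [LinearEquiv.symm_apply_eq]; exact (map_one (algebraMap L L')).symm
    simp only [bil, LinearMap.comp_apply, LinearEquiv.coe_coe]
    refine Eq.trans (congrArg _ this) ?_
    exact one_smul L β
  refine ⟨TensorProduct.lift bil, LinearMap.ext fun x => ?_⟩
  obtain ⟨⟨x, hx⟩, rfl⟩ := Ideal.toCotangent_surjective _ x
  rw [LinearMap.comp_apply, KaehlerDifferential.kerCotangentToTensor_toCotangent,
    TensorProduct.lift.tmul, hbil, LinearMap.id_apply]
  have hx' := hker ▸ hx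
  obtain ⟨c, hc⟩ := (Ideal.mem_span_range_iff_exists_fun).1 hx'
  have hD : ∀ j, β (KaehlerDifferential.D A L (algebraMap B L (b j))) = e j := by
    intro j
    simp only [β, LinearMap.sum_apply, LinearMap.smulRight_apply, LinearMap.smul_apply, smul_eq_mul,
      hlL, ite_smul, one_smul, zero_smul, Finset.sum_ite_eq', Finset.mem_univ, if_true]
  have hxe : (⟨x, hx⟩ : RingHom.ker (algebraMap L L')) = ∑ j, c j • ⟨_, hbmem j⟩ := by
    ext; simp [hc]
  have h2 : β (KaehlerDifferential.D A L x) = ∑ j, c j • e j := by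
    rw [← hc, map_sum, map_sum]
    refine Finset.sum_congr rfl fun j _ => ?_
    rw [Derivation.leibniz, map_add, map_smul, map_smul, hD, hann _ (hbmem j), add_zero]
  rw [h2, hxe, map_sum]
  simp only [map_smul]
  rfl

theorem exists_mul_mem (hA : Function.Surjective (algebraMap A A'))
    (hB : Function.Surjective (algebraMap B C)) [Algebra.Smooth A' C]
    (hb : ∀ j, algebraMap B C (b j) = 0)
    (hspan : ∀ x, algebraMap B C x = 0 →
      dκ (B ⧸ m) A x ∈ Submodule.span (B ⧸ m) (Set.range fun j => dκ (B ⧸ m) A (b j)))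
    (hIm : ∀ x, algebraMap B C x = 0 → x ∈ m) :
    ∃ t ∉ m, ∀ x, algebraMap B C x = 0 → t * x ∈
      Ideal.span (Set.range b) ⊔ (RingHom.ker (algebraMap A A')).map (algebraMap A B) := by
  let T := A' ⊗[A] B
  let ι : B →ₐ[A] T := Algebra.TensorProduct.includeRight
  have hιs : Function.Surjective ι := Algebra.TensorProduct.includeRight_surjective B hA
  let f : T →ₐ[A'] C :=
    Algebra.TensorProduct.lift (Algebra.ofId A' C) (IsScalarTower.toAlgHom A B C) fun _ _ => .all _ _
  have hfι : ∀ x, f (ι x) = algebraMap B C x := fun x => by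
    show f ((1 : A') ⊗ₜ x) = _
    refine (Algebra.TensorProduct.lift_tmul _ _ _ _ _).trans ?_
    rw [map_one, one_mul]
    rfl
  have hfs : Function.Surjective f := fun c => by
    obtain ⟨x, rfl⟩ := hB c
    exact ⟨ι x, hfι x⟩
  letI : Algebra T C := f.toRingHom.toAlgebra
  haveI : IsScalarTower A' T C := .of_algebraMap_eq fun a => (f.commutes a).symm
  let K := RingHom.ker (algebraMap T C)
  have hKfg : K.FG := Algebra.FinitePresentation.ker_fG_of_surjective f hfs
  obtain ⟨l, hl⟩ := (Algebra.FormallySmooth.iff_split_injection (R := A') (P := T) (A := C) hfs).1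
    inferInstance
  letI : Algebra B T := ι.toRingHom.toAlgebra
  haveI : IsScalarTower A B T := .of_algebraMap_eq fun a => (ι.commutes a).symm
  haveI : IsScalarTower B T C := .of_algebraMap_eq fun x => (hfι x).symm
  haveI : IsScalarTower B T (C ⊗[T] Ω[T⁄A']) := .of_algebraMap_smul fun a z => by
    induction z using TensorProduct.induction_on with
    | zero => simp
    | add u v hu hv => simp only [smul_add, hu, hv]
    | tmul c w => rw [TensorProduct.smul_tmul', TensorProduct.smul_tmul', algebraMap_smul]
  let l' : C ⊗[T] Ω[T⁄A'] →ₗ[T] K.Cotangent := l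
  let lam : Ω[B⁄A] →ₗ[B] K.Cotangent :=
    (l'.restrictScalars B).comp (((TensorProduct.mk T C Ω[T⁄A'] 1).restrictScalars B).comp
      (KaehlerDifferential.map A A' B T))
  have hxK : ∀ x, algebraMap B C x = 0 → ι x ∈ K := fun x hx => (hfι x).trans hx
  have hlam : ∀ x (hx : algebraMap B C x = 0),
      lam (KaehlerDifferential.D A B x) = K.toCotangent ⟨ι x, hxK x hx⟩ := by
    intro x hx
    have := LinearMap.congr_fun hl (K.toCotangent ⟨ι x, hxK x hx⟩)
    rw [LinearMap.comp_apply, KaehlerDifferential.kerCotangentToTensor_toCotangent,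
      LinearMap.id_apply] at this
    rw [← this]
    simp [lam, l', KaehlerDifferential.map_D]
    rfl
  let mT : Ideal T := m.map ι.toRingHom
  let b' : Ideal T := Ideal.span (Set.range fun j => ι (b j))
  have hbK : b' ≤ K := Ideal.span_le.2 (by rintro _ ⟨j, rfl⟩; exact hxK _ (hb j))
  have hmK : K ≤ mT := fun y hy => by
    obtain ⟨x, rfl⟩ := hιs y
    exact Ideal.mem_map_of_mem _ (hIm x ((hfι x).symm.trans hy))
  let G : Submodule T T := b' ⊔ mT • K
  have key : ∀ x, algebraMap B C x = 0 → ι x ∈ G := by
    intro x hx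
    obtain ⟨c, hc⟩ := (Submodule.mem_span_range_iff_exists_fun (B ⧸ m)).1 (hspan x hx)
    choose c' hc' using fun j => Ideal.Quotient.mk_surjective (c j)
    set ω := KaehlerDifferential.D A B x - ∑ j, c' j • KaehlerDifferential.D A B (b j) with hω
    have hω0 : ω ∈ m • (⊤ : Submodule B Ω[B⁄A]) := by
      rw [← Submodule.Quotient.mk_eq_zero]
      apply (TensorProduct.quotTensorEquivQuotSMul Ω[B⁄A] m).symm.injective
      rw [TensorProduct.quotTensorEquivQuotSMul_symm_mk, map_zero, hω, TensorProduct.tmul_sub,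
        TensorProduct.tmul_sum, sub_eq_zero]
      change dκ (B ⧸ m) A x = _
      rw [← hc]
      refine Finset.sum_congr rfl fun j _ => ?_
      rw [← hc', TensorProduct.tmul_smul, ← algebraMap_smul (B ⧸ m) (c' j)]
      rfl
    have h1 : lam ω ∈ mT • (⊤ : Submodule T K.Cotangent) := by
      refine Submodule.smul_induction_on hω0 (fun a ha w _ => ?_) (fun w w' hw hw' => ?_)
      · rw [map_smul]
        change algebraMap B T a • lam w ∈ _
        exact Submodule.smul_mem_smul (Ideal.mem_map_of_mem _ ha) Submodule.mem_top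
      · rw [map_add]; exact add_mem hw hw'
    set z : K := ⟨ι x, hxK x hx⟩ - ∑ j, ι (c' j) • ⟨ι (b j), hxK _ (hb j)⟩ with hz
    have h2 : K.toCotangent z = lam ω := by
      rw [hz, hω, map_sub, map_sub, map_sum, map_sum, hlam x hx]
      congr 1
      refine Finset.sum_congr rfl fun j _ => ?_
      rw [map_smul, map_smul, hlam _ (hb j)]
      rfl
    have h3 : K.toCotangent z ∈ Submodule.map K.toCotangent (mT • (⊤ : Submodule T K)) := by
      rw [Submodule.map_smul'', Submodule.map_top, Ideal.toCotangent_range, h2]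
      exact h1
    obtain ⟨w, hw, hwz⟩ := h3
    rw [Ideal.toCotangent_eq] at hwz
    have hw' : (w : T) ∈ mT • K := by
      have := Submodule.mem_map_of_mem (f := K.subtype) hw
      rwa [Submodule.map_smul'', Submodule.map_top, Submodule.range_subtype] at this
    have hsum : (∑ j, ι (c' j) * ι (b j)) ∈ b' :=
      Ideal.sum_mem _ fun j _ => Ideal.mul_mem_left _ _ (Ideal.subset_span ⟨j, rfl⟩)
    have e : ι x = (∑ j, ι (c' j) * ι (b j)) + ((w : T) - ((w : T) - (z : T))) := by
      have : (z : T) = ι x - ∑ j, ι (c' j) * ι (b j) := by simp [z]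
      rw [this]; ring
    rw [e]
    refine add_mem (Submodule.mem_sup_left hsum) (Submodule.mem_sup_right (sub_mem hw' ?_))
    rw [pow_two] at hwz
    exact Submodule.smul_mono_left hmK hwz
  have hle : Submodule.map b'.mkQ K ≤ mT • Submodule.map b'.mkQ K := by
    rintro _ ⟨y, hy, rfl⟩
    obtain ⟨x, rfl⟩ := hιs y
    obtain ⟨p, hp, q, hq, hpq⟩ := Submodule.mem_sup.1 (key x ((hfι x).symm.trans hy))
    rw [← hpq, map_add, show b'.mkQ p = 0 from (Submodule.Quotient.mk_eq_zero _).2 hp, zero_add,
      ← Submodule.map_smul'']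
    exact Submodule.mem_map_of_mem hq
  obtain ⟨ρ, hρ1, hρ⟩ := Submodule.exists_sub_one_mem_and_smul_eq_zero_of_fg_of_le_smul mT
    (Submodule.map b'.mkQ K) (Submodule.FG.map _ hKfg) hle
  obtain ⟨t0, rfl⟩ := hιs ρ
  obtain ⟨w, hwm, hw⟩ := (Ideal.mem_map_iff_of_surjective ι.toRingHom hιs).1 hρ1
  let J := (RingHom.ker (algebraMap A A')).map (algebraMap A B)
  have hkerι : ∀ x, ι x = 0 → x ∈ J := by
    let g : A' →ₐ[A] B ⧸ J :=
      AlgHom.liftOfSurjective (Algebra.ofId A A') hA (Algebra.ofId A (B ⧸ J)) (fun a ha => by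
        rw [RingHom.mem_ker] at ha ⊢
        exact Ideal.Quotient.eq_zero_iff_mem.2 (Ideal.mem_map_of_mem _ ha))
    let Ψ : T →ₐ[A] B ⧸ J :=
      Algebra.TensorProduct.lift g (Ideal.Quotient.mkₐ A J) fun _ _ => .all _ _
    intro x hx
    have := congrArg Ψ hx
    rw [map_zero] at this
    rw [← Ideal.Quotient.eq_zero_iff_mem, ← this]
    show _ = Ψ ((1 : A') ⊗ₜ x)
    symm
    refine (Algebra.TensorProduct.lift_tmul _ _ _ _ _).trans ?_
    rw [map_one, one_mul]
    rfl
  have ht : t0 ∉ m := by
    intro ht
    have h1 : t0 - 1 - w ∈ J := hkerι _ (by simp [map_sub, map_one]; exact sub_eq_zero.2 hw.symm)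
    have hJm : J ≤ m := Ideal.map_le_iff_le_comap.2 fun a ha => hIm _ (by
      rw [← IsScalarTower.algebraMap_apply, IsScalarTower.algebraMap_apply A A' C,
        RingHom.mem_ker.1 ha, map_zero])
    have : (1 : B) ∈ m := by
      have := m.sub_mem ht (add_mem (hJm h1) hwm)
      simpa using this
    exact (Ideal.IsMaximal.ne_top ‹_›) ((Ideal.eq_top_iff_one m).2 this)
  refine ⟨t0, ht, fun x hx => ?_⟩
  have h0 := hρ _ (Submodule.mem_map_of_mem (hxK x hx))
  rw [← map_smul, Submodule.mkQ_apply, Submodule.Quotient.mk_eq_zero, smul_eq_mul, ← map_mul] at h0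
  have hb'eq : b' = (Ideal.span (Set.range b)).map ι.toRingHom := by
    rw [Ideal.map_span, ← Set.range_comp]; rfl
  rw [hb'eq] at h0
  obtain ⟨v, hv, hvx⟩ := (Ideal.mem_map_iff_of_surjective ι.toRingHom hιs).1 h0
  have h4 : t0 * x - v ∈ J := hkerι _ (by rw [map_sub]; exact sub_eq_zero.2 hvx.symm)
  have := Submodule.add_mem_sup hv h4
  rwa [add_sub_cancel] at this

end lift

end Groth.Agent.H19.LiftSmooth.Alg
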