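import Groth.Agent.H19.LiftSmooth.Alg

/-!
# Semilocal smooth liftings of a smooth closed subscheme
-/

set_option autoImplicit false
set_option linter.style.haveILetI false

universe u

open CategoryTheory AlgebraicGeometry Limits TensorProduct

namespace Groth.Agent.H19.LiftSmooth.Main

/-- A section killed over a basic open comes from a killed section after multiplying by a power. -/
theorem loc_ker {X Z : Scheme.{u}} (i : Z ⟶ X) {V : X.Opens} (hV : IsAffineOpen V)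
    (hW : IsAffineOpen (i ⁻¹ᵁ V)) (h : Γ(X, V)) (y : Γ(X, X.basicOpen h))
    (hy : i.app (X.basicOpen h) y = 0) :
    ∃ (N : ℕ) (x : Γ(X, V)), i.app V x = 0 ∧
      X.presheaf.map (homOfLE (X.basicOpen_le h)).op x =
        X.presheaf.map (homOfLE (X.basicOpen_le h)).op h ^ N * y := by
  haveI := hV.isLocalization_basicOpen h
  set ρ := X.presheaf.map (homOfLE (X.basicOpen_le h)).op with hρ
  have halg : ∀ x, algebraMap Γ(X, V) Γ(X, X.basicOpen h) x = ρ x := fun x => rfl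
  obtain ⟨k, x₀, hk⟩ := IsLocalization.Away.surj h y
  rw [halg, halg] at hk
  have hle : i ⁻¹ᵁ X.basicOpen h ≤ i ⁻¹ᵁ V := fun z hz => X.basicOpen_le h hz
  letI : Algebra Γ(Z, i ⁻¹ᵁ V) Γ(Z, i ⁻¹ᵁ X.basicOpen h) :=
    (Z.presheaf.map (homOfLE hle).op).hom.toAlgebra
  haveI : IsLocalization.Away (i.app V h) Γ(Z, i ⁻¹ᵁ X.basicOpen h) :=
    hW.isLocalization_of_eq_basicOpen _ _ (Scheme.preimage_basicOpen i h)
  have hnat : ∀ x, i.app (X.basicOpen h) (ρ x) =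
      algebraMap Γ(Z, i ⁻¹ᵁ V) Γ(Z, i ⁻¹ᵁ X.basicOpen h) (i.app V x) := fun x => by
    rw [RingHom.algebraMap_toAlgebra, hρ, ← CommRingCat.comp_apply, Scheme.Hom.naturality,
      CommRingCat.comp_apply]
    rfl
  have h0 : algebraMap Γ(Z, i ⁻¹ᵁ V) Γ(Z, i ⁻¹ᵁ X.basicOpen h) (i.app V x₀) = 0 := by
    rw [← hnat, ← hk, map_mul, hy, zero_mul]
  obtain ⟨⟨_, N, rfl⟩, hN⟩ :=
    (IsLocalization.map_eq_zero_iff (.powers (i.app V h)) _ _).1 h0
  refine ⟨N + k, h ^ N * x₀, by rw [map_mul, map_pow]; exact hN, ?_⟩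
  rw [map_mul, map_pow, ← hk, pow_add]
  ring

/-- Surjectivity of `app` passes to basic opens. -/
theorem loc_surj {X Z : Scheme.{u}} (i : Z ⟶ X) {V : X.Opens} (hV : IsAffineOpen V)
    (hW : IsAffineOpen (i ⁻¹ᵁ V)) (hs : Function.Surjective (i.app V)) (h : Γ(X, V)) :
    Function.Surjective (i.app (X.basicOpen h)) := by
  haveI := hV.isLocalization_basicOpen h
  intro z
  have hle : i ⁻¹ᵁ X.basicOpen h ≤ i ⁻¹ᵁ V := fun z hz => X.basicOpen_le h hz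
  letI : Algebra Γ(Z, i ⁻¹ᵁ V) Γ(Z, i ⁻¹ᵁ X.basicOpen h) :=
    (Z.presheaf.map (homOfLE hle).op).hom.toAlgebra
  haveI : IsLocalization.Away (i.app V h) Γ(Z, i ⁻¹ᵁ X.basicOpen h) :=
    hW.isLocalization_of_eq_basicOpen _ _ (Scheme.preimage_basicOpen i h)
  set ρ := X.presheaf.map (homOfLE (X.basicOpen_le h)).op with hρ
  have hnat : ∀ x, i.app (X.basicOpen h) (ρ x) =
      algebraMap Γ(Z, i ⁻¹ᵁ V) Γ(Z, i ⁻¹ᵁ X.basicOpen h) (i.app V x) := fun x => by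
    rw [RingHom.algebraMap_toAlgebra, hρ, ← CommRingCat.comp_apply, Scheme.Hom.naturality,
      CommRingCat.comp_apply]
    rfl
  obtain ⟨k, z₀, hz⟩ := IsLocalization.Away.surj (i.app V h) z
  obtain ⟨x₀, rfl⟩ := hs z₀
  rw [← hnat, ← hnat, ← map_pow] at hz
  obtain ⟨v, hv⟩ : IsUnit (ρ h ^ k) :=
    ((IsLocalization.Away.algebraMap_isUnit (S := Γ(X, X.basicOpen h)) h).pow k : _)
  refine ⟨ρ x₀ * ↑v⁻¹, ?_⟩
  rw [map_mul, ← hz, mul_assoc, ← map_mul, ← hv, Units.mul_inv, map_one, mul_one]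

theorem exists_factor_of_cover {P X Z : Scheme.{u}} (i : Z ⟶ X) [Mono i] (q : P ⟶ X)
    {ι : Type u} (O : ι → P.Opens) (hcov : TopologicalSpace.IsOpenCover O)
    (l : ∀ M, ((O M : Scheme.Opens _) : Scheme.{u}) ⟶ Z) (hl : ∀ M, l M ≫ i = (O M).ι ≫ q) :
    ∃ s : P ⟶ Z, s ≫ i = q := by
  let 𝒰 := P.openCoverOfIsOpenCover O hcov
  have hf : ∀ M, 𝒰.f M = (O M).ι := fun _ => rfl
  refine ⟨𝒰.glueMorphisms l fun M M' => ?_, 𝒰.hom_ext _ _ fun M => ?_⟩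
  · rw [← cancel_mono i, Category.assoc, Category.assoc]
    refine (congrArg (pullback.fst (𝒰.f M) (𝒰.f M') ≫ ·) (hl M)).trans ?_
    refine Eq.trans ?_ (congrArg (pullback.snd (𝒰.f M) (𝒰.f M') ≫ ·) (hl M')).symm
    exact (Category.assoc _ _ _).symm.trans
      ((congrArg (· ≫ q) (pullback.condition (f := 𝒰.f M) (g := 𝒰.f M'))).trans (Category.assoc _ _ _))
  · rw [← Category.assoc, Scheme.Cover.ι_glueMorphisms]
    exact hl M

theorem toSpec_fromSpec {T X : Scheme.{u}} (q : T ⟶ X) {D : X.Opens} (hD : IsAffineOpen D) :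
    (q ⁻¹ᵁ D).toSpecΓ ≫ Spec.map (q.app D) ≫ hD.fromSpec = (q ⁻¹ᵁ D).ι ≫ q := by
  rw [Scheme.Hom.app_eq_appLE, Scheme.Opens.toSpecΓ_SpecMap_appLE_assoc, hD.toSpecΓ_fromSpec,
    Scheme.Hom.resLE_comp_ι]

section

variable {X₁ X₂ Z₁ Z₂ : Scheme.{u}} (i₁ : Z₁ ⟶ X₁) (i₂ : Z₂ ⟶ X₂) [IsClosedImmersion i₁]
  [IsClosedImmersion i₂] (f : X₂ ⟶ X₁) (g : Z₂ ⟶ Z₁) {n e : ℕ}
  [SmoothOfRelativeDimension n f] [SmoothOfRelativeDimension e g]
  {V : X₂.Opens} (hV : IsAffineOpen V)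

/-- The closed subscheme of `V` cut out by finitely many functions. -/
noncomputable def w {r : ℕ} (b : Fin r → Γ(X₂, V)) :
    Spec (CommRingCat.of (Γ(X₂, V) ⧸ Ideal.span (Set.range b))) ⟶ X₂ :=
  Spec.map (CommRingCat.ofHom (Ideal.Quotient.mk (Ideal.span (Set.range b)))) ≫ hV.fromSpec

theorem w_preimage {r : ℕ} (b : Fin r → Γ(X₂, V)) : w hV b ⁻¹ᵁ V = ⊤ := by
  rw [w, Scheme.Hom.comp_preimage, hV.fromSpec_preimage_self]
  rfl

theorem w_app {r : ℕ} (b : Fin r → Γ(X₂, V)) :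
    Function.Surjective ((w hV b).app V) ∧
      ∀ x, (w hV b).app V x = 0 ↔ x ∈ Ideal.span (Set.range b) := by
  have h1 : (w hV b).appLE V ⊤ (w_preimage hV b).ge =
      CommRingCat.ofHom (Ideal.Quotient.mk (Ideal.span (Set.range b))) ≫
        (Scheme.ΓSpecIso _).inv := by
    rw [Scheme.ΓSpecIso_inv_naturality]
    simp [w, Scheme.Hom.appLE, hV.fromSpec_app_self, Scheme.Hom.appTop]
    congr 1
  have h2 : ∀ x, (w hV b).appLE V ⊤ (w_preimage hV b).ge x =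
      (Scheme.ΓSpecIso _).inv (Ideal.Quotient.mk (Ideal.span (Set.range b)) x) := fun x => by
    rw [h1]; rfl
  have h3 : ∀ x, (w hV b).appLE V ⊤ (w_preimage hV b).ge x =
      (Spec _).presheaf.map (homOfLE (w_preimage hV b).ge).op ((w hV b).app V x) := fun x => rfl
  have hbij : Function.Bijective
      ((Spec (CommRingCat.of (Γ(X₂, V) ⧸ Ideal.span (Set.range b)))).presheaf.map
        (homOfLE (w_preimage hV b).ge).op) := by
    haveI : IsIso (homOfLE (w_preimage hV b).ge) :=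
      ⟨homOfLE (w_preimage hV b).le, rfl, rfl⟩
    exact ConcreteCategory.bijective_of_isIso _
  refine ⟨fun z => ?_, fun x => ?_⟩
  · obtain ⟨c, hc⟩ := (ConcreteCategory.bijective_of_isIso (Scheme.ΓSpecIso
      (CommRingCat.of (Γ(X₂, V) ⧸ Ideal.span (Set.range b)))).inv).2
        ((Spec _).presheaf.map (homOfLE (w_preimage hV b).ge).op z)
    obtain ⟨x, rfl⟩ := Ideal.Quotient.mk_surjective c
    exact ⟨x, hbij.1 ((h3 x).symm.trans ((h2 x).trans hc))⟩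
  · rw [← Ideal.Quotient.eq_zero_iff_mem, ← map_eq_zero_iff _
      (ConcreteCategory.bijective_of_isIso (Scheme.ΓSpecIso
        (CommRingCat.of (Γ(X₂, V) ⧸ Ideal.span (Set.range b)))).inv).1, ← h2, h3,
      map_eq_zero_iff _ hbij.1]

/-- The conclusion wanted at a point `x`. -/
def Concl {r : ℕ} (b : Fin r → Γ(X₂, V)) (x : X₂) : Prop :=
  (∀ p, w hV b p = x → ((w hV b ≫ f).stalkMap p).hom.FormallySmooth) ∧
    ∃ D : X₂.Opens, IsAffineOpen D ∧ x ∈ D ∧ ∀ (T : Scheme.{u})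
      (a : T ⟶ Spec (CommRingCat.of (Γ(X₂, V) ⧸ Ideal.span (Set.range b)))) (c : T ⟶ Z₁),
      a ≫ w hV b ≫ f = c ≫ i₁ → ∀ y : Γ(X₂, D), i₂.app D y = 0 → (a ≫ w hV b).app D y = 0

omit [IsClosedImmersion i₁] [IsClosedImmersion i₂] [SmoothOfRelativeDimension n f] in
theorem concl_outside {r : ℕ} (j : Fin r) (M : Ideal Γ(X₂, V)) [hM : M.IsPrime]
    (b : Fin r → Γ(X₂, V)) (hb : b j ∉ M) : Concl i₁ i₂ f hV b (hV.fromSpec ⟨M, hM⟩) := by
  have hx : hV.fromSpec ⟨M, hM⟩ ∈ X₂.basicOpen (b j) := by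
    show (⟨M, hM⟩ : PrimeSpectrum _) ∈ hV.fromSpec ⁻¹ᵁ X₂.basicOpen (b j)
    rw [hV.fromSpec_preimage_basicOpen]
    exact hb
  have hbot : w hV b ⁻¹ᵁ X₂.basicOpen (b j) = ⊥ := by
    rw [Scheme.preimage_basicOpen, ((w_app hV b).2 _).2 (Ideal.subset_span ⟨j, rfl⟩)]
    exact Scheme.basicOpen_zero _ _
  refine ⟨fun p hp => ?_, _, hV.basicOpen (b j), hx, fun T a c _ y _ => ?_⟩
  · have : p ∈ w hV b ⁻¹ᵁ X₂.basicOpen (b j) := by
      show w hV b p ∈ X₂.basicOpen (b j)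
      rw [hp]; exact hx
    rw [hbot] at this
    exact this.elim
  · haveI : Subsingleton Γ(T, (a ≫ w hV b) ⁻¹ᵁ X₂.basicOpen (b j)) := by
      rw [Scheme.Hom.comp_preimage, hbot]
      exact CommRingCat.subsingleton_of_isTerminal T.sheaf.isTerminalOfEmpty
    exact Subsingleton.elim _ _

attribute [local instance] Ideal.Quotient.field

theorem concl_inside (hsq : i₂ ≫ f = g ≫ i₁) (M : Ideal Γ(X₂, V)) [hM : M.IsMaximal]
    (hr : hV.fromSpec ⟨M, hM.isPrime⟩ ∈ Set.range i₂.base) :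
    e ≤ n ∧ ∃ xs : Fin (n - e) → Γ(X₂, V), (∀ j, i₂.app V (xs j) = 0) ∧
      ∀ b : Fin (n - e) → Γ(X₂, V), (∀ j, i₂.app V (b j) = 0) →
        (∀ j, b j - xs j ∈ M • (RingHom.ker (i₂.app V).hom)) →
        Concl i₁ i₂ f hV b (hV.fromSpec ⟨M, hM.isPrime⟩) := by
  classical
  haveI : Smooth f := SmoothOfRelativeDimension.smooth n f
  haveI : Smooth g := SmoothOfRelativeDimension.smooth e g
  set x := hV.fromSpec ⟨M, hM.isPrime⟩ with hxdef
  obtain ⟨z, hz⟩ := hr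
  have hxV : x ∈ V := hV.range_fromSpec.le ⟨_, rfl⟩
  obtain ⟨U₁, hU₁, hfx, -⟩ :=
    exists_isAffineOpen_mem_and_subset (X := X₁) (x := f x) (U := ⊤) trivial
  obtain ⟨h, hhU, hxh⟩ := hV.exists_basicOpen_le ⟨x, (show x ∈ f ⁻¹ᵁ U₁ from hfx)⟩ hxV
  set D := X₂.basicOpen h with hDdef
  have hD : IsAffineOpen D := hV.basicOpen h
  have hzD : z ∈ i₂ ⁻¹ᵁ D := by show i₂.base z ∈ D; rw [hz]; exact hxh
  have eZ : i₂ ⁻¹ᵁ D ≤ g ⁻¹ᵁ (i₁ ⁻¹ᵁ U₁) := fun y hy => by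
    have := congr($hsq y)
    simp only [Scheme.Hom.comp_apply] at this
    show i₁ (g y) ∈ U₁
    rw [← this]; exact hhU hy
  let φ := f.appLE U₁ D hhU
  let ψ := g.appLE (i₁ ⁻¹ᵁ U₁) (i₂ ⁻¹ᵁ D) eZ
  letI : Algebra Γ(X₁, U₁) Γ(X₂, D) := φ.hom.toAlgebra
  letI : Algebra Γ(X₁, U₁) Γ(Z₁, i₁ ⁻¹ᵁ U₁) := (i₁.app U₁).hom.toAlgebra
  letI : Algebra Γ(X₂, D) Γ(Z₂, i₂ ⁻¹ᵁ D) := (i₂.app D).hom.toAlgebra
  letI : Algebra Γ(Z₁, i₁ ⁻¹ᵁ U₁) Γ(Z₂, i₂ ⁻¹ᵁ D) := ψ.hom.toAlgebra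
  letI : Algebra Γ(X₁, U₁) Γ(Z₂, i₂ ⁻¹ᵁ D) := (φ ≫ i₂.app D).hom.toAlgebra
  haveI : IsScalarTower Γ(X₁, U₁) Γ(X₂, D) Γ(Z₂, i₂ ⁻¹ᵁ D) := .of_algebraMap_eq fun _ => rfl
  have hsquare : φ ≫ i₂.app D = i₁.app U₁ ≫ ψ := by
    simp only [φ, ψ, Scheme.Hom.app_eq_appLE, Scheme.Hom.appLE_comp_appLE, hsq]
  haveI : IsScalarTower Γ(X₁, U₁) Γ(Z₁, i₁ ⁻¹ᵁ U₁) Γ(Z₂, i₂ ⁻¹ᵁ D) :=
    .of_algebraMap_eq fun a => congr($hsquare a)
  have hA : Function.Surjective (algebraMap Γ(X₁, U₁) Γ(Z₁, i₁ ⁻¹ᵁ U₁)) := i₁.app_surjective U₁ hU₁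
  have hB : Function.Surjective (algebraMap Γ(X₂, D) Γ(Z₂, i₂ ⁻¹ᵁ D)) := i₂.app_surjective D hD
  have hn : RingHom.Locally (RingHom.IsStandardSmoothOfRelativeDimension n)
      (algebraMap Γ(X₁, U₁) Γ(X₂, D)) :=
    HasRingHomProperty.appLE (@SmoothOfRelativeDimension n) f ‹_› ⟨U₁, hU₁⟩ ⟨D, hD⟩ hhU
  have he : RingHom.Locally (RingHom.IsStandardSmoothOfRelativeDimension e)
      (algebraMap Γ(Z₁, i₁ ⁻¹ᵁ U₁) Γ(Z₂, i₂ ⁻¹ᵁ D)) :=
    HasRingHomProperty.appLE (@SmoothOfRelativeDimension e) g ‹_› ⟨_, hU₁.preimage i₁⟩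
      ⟨_, hD.preimage i₂⟩ eZ
  haveI : Algebra.Smooth Γ(X₁, U₁) Γ(X₂, D) := by
    rw [← RingHom.smooth_algebraMap]
    exact f.smooth_appLE hU₁ hD hhU
  haveI : Algebra.Smooth Γ(Z₁, i₁ ⁻¹ᵁ U₁) Γ(Z₂, i₂ ⁻¹ᵁ D) := by
    rw [← RingHom.smooth_algebraMap]
    exact g.smooth_appLE (hU₁.preimage i₁) (hD.preimage i₂) eZ
  set ρ := X₂.presheaf.map (homOfLE (X₂.basicOpen_le h)).op with hρdef
  set m := (hD.primeIdealOf ⟨x, hxh⟩).asIdeal with hmdef
  have hcomap : m.comap ρ.hom = M := by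
    have h1 := IsAffineOpen.comap_primeIdealOf_appLE (f := 𝟙 X₂) V hV D hD
      (X₂.basicOpen_le h) (x := x) hxh
    have h2 : hV.primeIdealOf ⟨x, hxV⟩ = ⟨M, hM.isPrime⟩ :=
      hV.fromSpec.isOpenEmbedding.injective (by rw [hV.fromSpec_primeIdealOf])
    have h3 := congrArg PrimeSpectrum.asIdeal (h1.trans h2)
    simp [Scheme.Hom.appLE] at h3
    exact (Ideal.comap_id _).symm.trans h3
  haveI := hV.isLocalization_basicOpen h
  haveI : m.IsMaximal := by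
    refine ⟨⟨(inferInstance : m.IsPrime).ne_top, fun N hN => ?_⟩⟩
    by_contra hne
    have h1 : M ≤ N.comap ρ.hom := hcomap ▸ Ideal.comap_mono hN.le
    have h2 : (N.comap ρ.hom).map ρ.hom = N :=
      IsLocalization.map_comap (Submonoid.powers h) Γ(X₂, D) N
    rcases (hM.eq_of_le (fun ht => hne (by rw [← h2, ht, Ideal.map_top])) h1) with h3
    have : N ≤ m := by rw [← h2, ← h3, Ideal.map_le_iff_le_comap, hcomap]
    exact hN.not_ge this
  have hIm : ∀ y, algebraMap Γ(X₂, D) Γ(Z₂, i₂ ⁻¹ᵁ D) y = 0 → y ∈ m := by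
    intro y hy
    have h1 := IsAffineOpen.comap_primeIdealOf_appLE (f := i₂) D hD (i₂ ⁻¹ᵁ D) (hD.preimage i₂)
      le_rfl (x := z) hzD
    have h2 : hD.primeIdealOf ⟨i₂ z, hzD⟩ = hD.primeIdealOf ⟨x, hxh⟩ := by
      congr 1; exact Subtype.ext hz
    have h3 := congrArg PrimeSpectrum.asIdeal (h1.trans h2)
    rw [hmdef, ← h3, PrimeSpectrum.comap_asIdeal, Ideal.mem_comap]
    rw [← Scheme.Hom.app_eq_appLE, show i₂.app D y = 0 from hy]
    exact zero_mem _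
  let κ := Γ(X₂, D) ⧸ m
  letI : Algebra Γ(Z₂, i₂ ⁻¹ᵁ D) κ :=
    (RingHom.liftOfSurjective (algebraMap Γ(X₂, D) Γ(Z₂, i₂ ⁻¹ᵁ D)) hB
      ⟨Ideal.Quotient.mk m, fun y hy => Ideal.Quotient.eq_zero_iff_mem.2 (hIm y hy)⟩).toAlgebra
  haveI : IsScalarTower Γ(X₂, D) Γ(Z₂, i₂ ⁻¹ᵁ D) κ := .of_algebraMap_eq fun y =>
    (RingHom.liftOfSurjective_comp_apply (algebraMap Γ(X₂, D) Γ(Z₂, i₂ ⁻¹ᵁ D)) hB
      ⟨Ideal.Quotient.mk m, fun y hy => Ideal.Quotient.eq_zero_iff_mem.2 (hIm y hy)⟩ y).symm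
  set I := RingHom.ker (i₂.app V).hom
  have hρI : ∀ y ∈ I, algebraMap Γ(X₂, D) Γ(Z₂, i₂ ⁻¹ᵁ D) (ρ y) = 0 := by
    intro y hy
    show i₂.app D (ρ y) = 0
    rw [hρdef, ← CommRingCat.comp_apply, Scheme.Hom.naturality, CommRingCat.comp_apply,
      show i₂.app V y = 0 from hy, map_zero]
  let d := Alg.dκ κ Γ(X₁, U₁) (B := Γ(X₂, D))
  let S : Set (κ ⊗[Γ(X₂, D)] Ω[Γ(X₂, D)⁄Γ(X₁, U₁)]) := (fun y => d (ρ y)) '' I
  have hSspan : Submodule.span κ S =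
      Submodule.span κ (d '' {y | algebraMap Γ(X₂, D) Γ(Z₂, i₂ ⁻¹ᵁ D) y = 0}) := by
    refine le_antisymm (Submodule.span_mono ?_) (Submodule.span_le.2 ?_)
    · rintro _ ⟨y, hy, rfl⟩
      exact ⟨_, hρI y hy, rfl⟩
    · rintro _ ⟨y, hy, rfl⟩
      obtain ⟨N, x', hx', hx''⟩ := loc_ker i₂ hV (hV.preimage i₂) h y hy
      have h1 : d (ρ x') = algebraMap Γ(X₂, D) κ (ρ h ^ N) • d y := by
        rw [show ρ x' = ρ h ^ N * y from hx'']
        exact Alg.dκ_mul κ _ _ (by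
          rw [IsScalarTower.algebraMap_apply Γ(X₂, D) Γ(Z₂, i₂ ⁻¹ᵁ D) κ, hy, map_zero])
      have hu : IsUnit (algebraMap Γ(X₂, D) κ (ρ h ^ N)) :=
        ((IsLocalization.Away.algebraMap_isUnit (S := Γ(X₂, D)) h).pow N).map _
      obtain ⟨u, hu⟩ := hu
      have : d y = (↑u⁻¹ : κ) • d (ρ x') := by rw [h1, ← hu, smul_smul, Units.inv_mul, one_smul]
      rw [SetLike.mem_coe, this]
      exact Submodule.smul_mem _ _ (Submodule.subset_span ⟨x', hx', rfl⟩)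
  have hrank : Module.finrank κ (Submodule.span κ S) + e = n := by
    rw [hSspan]; exact Alg.finrank_span κ hA hB hn he
  obtain ⟨v, hvS, hvspan, hvli⟩ := Submodule.exists_fun_fin_finrank_span_eq κ S
  choose y hyI hyv using hvS
  have hcard : n - e = Module.finrank κ (Submodule.span κ S) := by omega
  refine ⟨by omega, fun j => y (Fin.cast hcard j), fun j => hyI _, fun b hb hbx => ?_⟩
  have hd0 : ∀ s ∈ M • I, d (ρ s) = 0 := by
    intro s hs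
    refine Submodule.smul_induction_on hs (fun a ha c hc => ?_) (fun s s' h1 h2 => ?_)
    · rw [smul_eq_mul, map_mul]
      show Alg.dκ κ _ (ρ a * ρ c) = 0
      rw [Alg.dκ_mul κ _ _ (by
          rw [IsScalarTower.algebraMap_apply Γ(X₂, D) Γ(Z₂, i₂ ⁻¹ᵁ D) κ, hρI c hc, map_zero]),
        show algebraMap Γ(X₂, D) κ (ρ a) = 0 from
          Ideal.Quotient.eq_zero_iff_mem.2 (by rw [← hcomap] at ha; exact ha), zero_smul]
    · rw [map_add]
      show Alg.dκ κ _ (ρ s + ρ s') = 0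
      rw [Alg.dκ_add, show Alg.dκ κ _ (ρ s) = 0 from h1, show Alg.dκ κ _ (ρ s') = 0 from h2, add_zero]
  let b₁ : Fin (n - e) → Γ(X₂, D) := fun j => ρ (b j)
  have hdb : (fun j => d (b₁ j)) = v ∘ Fin.cast hcard := by
    funext j
    have h1 := hd0 _ (hbx j)
    have h2 : d (b₁ j) = d (ρ (b j - y (Fin.cast hcard j))) + d (ρ (y (Fin.cast hcard j))) := by
      show Alg.dκ κ _ _ = Alg.dκ κ _ _ + Alg.dκ κ _ _
      rw [← Alg.dκ_add, ← map_add, sub_add_cancel]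
    rw [h2, h1, zero_add]
    exact hyv _
  have hli : LinearIndependent κ fun j => d (b₁ j) := by
    rw [hdb]; exact hvli.comp _ (Fin.cast_injective hcard)
  have hspanb : ∀ s, algebraMap Γ(X₂, D) Γ(Z₂, i₂ ⁻¹ᵁ D) s = 0 →
      d s ∈ Submodule.span κ (Set.range fun j => d (b₁ j)) := by
    intro s hs
    have : Set.range (fun j => d (b₁ j)) = Set.range v := by
      rw [hdb]; exact (finCongr hcard).surjective.range_comp v
    rw [this, hvspan, hSspan]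
    exact Submodule.subset_span ⟨s, hs, rfl⟩
  obtain ⟨t, htm, ht⟩ := Alg.exists_mul_mem (A' := Γ(Z₁, i₁ ⁻¹ᵁ U₁)) (C := Γ(Z₂, i₂ ⁻¹ᵁ D))
    m b₁ hA hB (fun j => hρI _ (hb j)) hspanb hIm
  refine ⟨fun p hp => ?_, X₂.basicOpen t, hD.basicOpen t, ?_, fun T a c hac s hs => ?_⟩
  · have hW : IsAffineOpen (w hV b ⁻¹ᵁ V) := by rw [w_preimage]; exact isAffineOpen_top _
    have hWD : IsAffineOpen (w hV b ⁻¹ᵁ D) := by
      rw [hDdef, Scheme.preimage_basicOpen]; exact hW.basicOpen _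
    have hpD : p ∈ w hV b ⁻¹ᵁ D := by show w hV b p ∈ D; rw [hp]; exact hxh
    have e' : w hV b ⁻¹ᵁ D ≤ (w hV b ≫ f) ⁻¹ᵁ U₁ := fun q hq => hhU hq
    haveI : LocallyOfFinitePresentation f := inferInstance
    rw [formallySmooth_stalkMap_iff U₁ hU₁ (w hV b ⁻¹ᵁ D) hWD e' hpD]
    letI : Algebra Γ(X₁, U₁) Γ(Spec (CommRingCat.of (Γ(X₂, V) ⧸ Ideal.span (Set.range b))), w hV b ⁻¹ᵁ D) := ((w hV b ≫ f).appLE U₁ _ e').hom.toAlgebra
    letI : Algebra Γ(X₂, D) Γ(Spec (CommRingCat.of (Γ(X₂, V) ⧸ Ideal.span (Set.range b))), w hV b ⁻¹ᵁ D) := ((w hV b).app D).hom.toAlgebra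
    haveI : IsScalarTower Γ(X₁, U₁) Γ(X₂, D) Γ(Spec (CommRingCat.of (Γ(X₂, V) ⧸ Ideal.span (Set.range b))), w hV b ⁻¹ᵁ D) := .of_algebraMap_eq fun a => by
      simp only [RingHom.algebraMap_toAlgebra, φ, Scheme.Hom.app_eq_appLE,
        ← CommRingCat.comp_apply, Scheme.Hom.appLE_comp_appLE]
    refine Alg.isSmoothAt (B := Γ(X₂, D)) m b₁ hli (loc_surj _ hV hW (w_app hV b).1 h) ?_ _ ?_
    · refine le_antisymm (fun s hs => ?_) (Ideal.span_le.2 ?_)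
      · obtain ⟨N, x', hx', hx''⟩ := loc_ker (w hV b) hV hW h s hs
        have hu : IsUnit (ρ h ^ N) :=
          (IsLocalization.Away.algebraMap_isUnit (S := Γ(X₂, D)) h).pow N
        rw [← Ideal.unit_mul_mem_iff_mem _ hu, show ρ h ^ N * s = ρ x' from hx''.symm]
        have := Ideal.mem_map_of_mem ρ.hom (((w_app hV b).2 x').1 hx')
        rwa [Ideal.map_span, ← Set.range_comp] at this
      · rintro _ ⟨j, rfl⟩
        show (w hV b).app D (ρ (b j)) = 0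
        rw [hρdef, ← CommRingCat.comp_apply, Scheme.Hom.naturality, CommRingCat.comp_apply,
          ((w_app hV b).2 _).2 (Ideal.subset_span ⟨j, rfl⟩), map_zero]
    · have h1 := congrArg PrimeSpectrum.asIdeal (IsAffineOpen.comap_primeIdealOf_appLE
        (f := w hV b) D hD (w hV b ⁻¹ᵁ D) hWD le_rfl (x := p) hpD)
      have h2 : hD.primeIdealOf ⟨w hV b p, hpD⟩ = hD.primeIdealOf ⟨x, hxh⟩ := by
        congr 1; exact Subtype.ext hp
      rw [hmdef, ← h2, ← h1]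
      simp only [RingHom.algebraMap_toAlgebra, Scheme.Hom.app_eq_appLE]
      rfl
  · have h1 : (hD.primeIdealOf ⟨x, hxh⟩) ∈ hD.fromSpec ⁻¹ᵁ X₂.basicOpen t := by
      rw [hD.fromSpec_preimage_basicOpen]; exact htm
    have h2 : hD.fromSpec (hD.primeIdealOf ⟨x, hxh⟩) ∈ X₂.basicOpen t := h1
    rwa [hD.fromSpec_primeIdealOf] at h2
  · set q := a ≫ w hV b with hq
    obtain ⟨N, x', hx', hx''⟩ := loc_ker i₂ hD (hD.preimage i₂) t s hs
    have hkill : Ideal.span (Set.range b₁) ⊔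
        (RingHom.ker (algebraMap Γ(X₁, U₁) Γ(Z₁, i₁ ⁻¹ᵁ U₁))).map
          (algebraMap Γ(X₁, U₁) Γ(X₂, D)) ≤ RingHom.ker (q.app D).hom := by
      refine sup_le (Ideal.span_le.2 ?_) (Ideal.map_le_iff_le_comap.2 fun r hr => ?_)
      · rintro _ ⟨j, rfl⟩
        show q.app D (ρ (b j)) = 0
        have h0 : q.app V (b j) = 0 := by
          rw [hq, Scheme.Hom.comp_app]
          show a.app _ ((w hV b).app V (b j)) = 0
          rw [((w_app hV b).2 _).2 (Ideal.subset_span ⟨j, rfl⟩), map_zero]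
        rw [hρdef, ← CommRingCat.comp_apply, Scheme.Hom.naturality, CommRingCat.comp_apply, h0,
          map_zero]
      · show q.app D (f.appLE U₁ D hhU r) = 0
        have h1 : q ⁻¹ᵁ D ≤ c ⁻¹ᵁ (i₁ ⁻¹ᵁ U₁) := fun y hy => by
          have hh : (q ≫ f) y ∈ U₁ := hhU hy
          rw [hq, Category.assoc, hac] at hh
          exact hh
        have h2 : f.appLE U₁ D hhU ≫ q.app D = i₁.app U₁ ≫ c.appLE (i₁ ⁻¹ᵁ U₁) (q ⁻¹ᵁ D) h1 := by
          simp only [Scheme.Hom.app_eq_appLE, Scheme.Hom.appLE_comp_appLE, hq, Category.assoc, hac]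
        rw [← CommRingCat.comp_apply, h2, CommRingCat.comp_apply,
          show i₁.app U₁ r = 0 from hr, map_zero]
    set σ := X₂.presheaf.map (homOfLE (X₂.basicOpen_le t)).op with hσ
    haveI := hD.isLocalization_basicOpen t
    have hu : IsUnit (σ t) := IsLocalization.Away.algebraMap_isUnit (S := Γ(X₂, X₂.basicOpen t)) t
    have h0 : q.app D (t * x') = 0 := hkill (ht x' hx')
    have h1 : q.app (X₂.basicOpen t) (σ (t * x')) = 0 := by
      rw [hσ, ← CommRingCat.comp_apply, Scheme.Hom.naturality, CommRingCat.comp_apply, h0, map_zero]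
    rw [map_mul, show σ x' = σ t ^ N * s from hx'', ← mul_assoc, ← pow_succ', map_mul] at h1
    exact ((hu.pow (N + 1)).map (q.app (X₂.basicOpen t)).hom).mul_right_eq_zero.1 h1

theorem exists_lift (hsq : i₂ ≫ f = g ≫ i₁) (T : Set X₂) (hT : T.Finite)
    (hcase : e < n ∨ T ⊆ Set.range i₂.base) (hTV : T ⊆ (V : Set X₂)) (hV : IsAffineOpen V) :
    ∃ U : X₂.Opens, T ⊆ (U : Set X₂) ∧
      ∃ (W : Scheme.{u}) (k : W ⟶ (U : Scheme.{u}))
        (m : ((i₂ ⁻¹ᵁ U : Z₂.Opens) : Scheme.{u}) ⟶ W),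
        IsClosedImmersion k ∧ m ≫ k = i₂ ∣_ U ∧ AlgebraicGeometry.Smooth (k ≫ U.ι ≫ f) ∧
          IsPullback m ((i₂ ⁻¹ᵁ U).ι ≫ g) (k ≫ U.ι ≫ f) i₁ := by
  classical
  haveI : Smooth f := SmoothOfRelativeDimension.smooth n f
  have hspec : ∀ t : T, ∃ M : Ideal Γ(X₂, V), ∃ hM : M.IsMaximal,
      (t : X₂) ⤳ hV.fromSpec ⟨M, hM.isPrime⟩ := by
    intro t
    obtain ⟨M, hM, hle⟩ := Ideal.exists_le_maximal _
      (hV.primeIdealOf ⟨t, hTV t.2⟩).isPrime.ne_top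
    refine ⟨M, hM, ?_⟩
    have h1 : hV.primeIdealOf ⟨t, hTV t.2⟩ ⤳ (⟨M, hM.isPrime⟩ : PrimeSpectrum Γ(X₂, V)) :=
      (PrimeSpectrum.le_iff_specializes _ _).1 hle
    have := h1.map hV.fromSpec.continuous
    rwa [hV.fromSpec_primeIdealOf] at this
  choose Mt hMt hts using hspec
  let S : Set (Ideal Γ(X₂, V)) := Set.range Mt
  haveI : Finite T := hT.to_subtype
  haveI : Finite S := Set.finite_range Mt |>.to_subtype
  haveI : Fintype S := Fintype.ofFinite S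
  have hS : ∀ M : S, (M : Ideal Γ(X₂, V)).IsMaximal := by
    rintro ⟨_, t, rfl⟩; exact hMt t
  set I := RingHom.ker (i₂.app V).hom with hI
  have key : ∀ M : S, ∃ xs : Fin (n - e) → Γ(X₂, V), (∀ j, xs j ∈ I) ∧
      ∀ b : Fin (n - e) → Γ(X₂, V), (∀ j, b j ∈ I) → (∀ j, b j - xs j ∈ (M : Ideal Γ(X₂, V)) • I) →
        Concl i₁ i₂ f hV b (hV.fromSpec ⟨M, (hS M).isPrime⟩) := by
    intro M
    haveI := hS M
    by_cases hr : hV.fromSpec ⟨M, (hS M).isPrime⟩ ∈ Set.range i₂.base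
    · exact (concl_inside i₁ i₂ f g (n := n) (e := e) hV hsq M hr).2
    · have hlt : e < n := by
        refine hcase.resolve_right fun hc => hr ?_
        obtain ⟨_, t, rfl⟩ := M
        exact (hts t).mem_closed i₂.isClosedEmbedding.isClosed_range (hc t.2)
      obtain ⟨x, hxI, hxM⟩ : ∃ x ∈ I, x ∉ (M : Ideal Γ(X₂, V)) := by
        by_contra! hle
        apply hr
        have hs : Function.Surjective (i₂.app V).hom := i₂.app_surjective V hV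
        haveI : (Ideal.map (i₂.app V).hom (M : Ideal Γ(X₂, V))).IsPrime :=
          Ideal.map_isPrime_of_surjective hs hle
        refine ⟨(hV.preimage i₂).fromSpec
          ⟨Ideal.map (i₂.app V).hom (M : Ideal Γ(X₂, V)), inferInstance⟩, ?_⟩
        have h1 := congr($((hV.SpecMap_appLE_fromSpec i₂ (hV.preimage i₂) le_rfl))
          (⟨Ideal.map (i₂.app V).hom (M : Ideal Γ(X₂, V)), inferInstance⟩ :
            PrimeSpectrum Γ(Z₂, i₂ ⁻¹ᵁ V)))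
        simp only [Scheme.Hom.comp_apply] at h1
        rw [← h1]
        congr 1
        apply PrimeSpectrum.ext
        show Ideal.comap (i₂.appLE V (i₂ ⁻¹ᵁ V) le_rfl).hom _ = _
        rw [← Scheme.Hom.app_eq_appLE, Ideal.comap_map_of_surjective _ hs, sup_eq_left]
        exact fun y hy => hle y (RingHom.mem_ker.2 (by simpa using hy))
      refine ⟨fun _ => x, fun _ => hxI, fun b hb hbx => ?_⟩
      haveI := (hS M).isPrime
      refine concl_outside i₁ i₂ f hV ⟨0, by omega⟩ _ b fun hb0 => hxM ?_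
      have := (M : Ideal Γ(X₂, V)).sub_mem hb0 (Submodule.smul_le.2
        (fun a ha c _ => Ideal.mul_mem_right c _ ha) (hbx ⟨0, by omega⟩))
      simpa using this
  choose xs hxsI hxs using key
  have hcop : Pairwise (Function.onFun IsCoprime fun M : S => (M : Ideal Γ(X₂, V))) := fun M M' hne => by
    haveI := hS M
    haveI := hS M'
    exact Ideal.isCoprime_iff_sup_eq.2 (Ideal.IsMaximal.coprime_of_ne ‹_› ‹_›
      fun h => hne (Subtype.ext h))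
  choose ε hε using fun M : S => Ideal.exists_forall_sub_mem_ideal hcop
    (fun M' => if M' = M then (1 : Γ(X₂, V)) else 0)
  let b : Fin (n - e) → Γ(X₂, V) := fun j => ∑ M, ε M * xs M j
  have hbI : ∀ j, b j ∈ I := fun j => Ideal.sum_mem _ fun M _ => Ideal.mul_mem_left _ _ (hxsI M j)
  have hbx : ∀ (M : S) j, b j - xs M j ∈ (M : Ideal Γ(X₂, V)) • I := by
    intro M j
    have : b j - xs M j = ∑ M', (ε M' - if M = M' then 1 else 0) * xs M' j := by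
      simp only [b, sub_mul, Finset.sum_sub_distrib, ite_mul, one_mul, zero_mul, Finset.sum_ite_eq,
        Finset.mem_univ, if_true]
    rw [this]
    exact Submodule.sum_mem _ fun M' _ => Submodule.smul_mem_smul (hε M' M) (hxsI M' j)
  have hC := fun M : S => hxs M b hbI (hbx M)
  choose hsm D hD hxD hDfac using hC
  set q : Spec (CommRingCat.of (Γ(X₂, V) ⧸ Ideal.span (Set.range b))) ⟶ Spec Γ(X₂, V) :=
    Spec.map (CommRingCat.ofHom (Ideal.Quotient.mk (Ideal.span (Set.range b)))) with hq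
  haveI : IsClosedImmersion q :=
    IsClosedImmersion.spec_of_surjective _ Ideal.Quotient.mk_surjective
  haveI : LocallyOfFinitePresentation q := by
    rw [hq, HasRingHomProperty.Spec_iff (P := @LocallyOfFinitePresentation)]
    exact RingHom.FinitePresentation.of_surjective _ Ideal.Quotient.mk_surjective
      (by rw [CommRingCat.hom_ofHom, Ideal.mk_ker]; exact Submodule.fg_span (Set.finite_range b))
  have hw : w hV b = q ≫ hV.fromSpec := rfl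
  haveI : LocallyOfFinitePresentation (w hV b ≫ f) := by rw [hw]; infer_instance
  haveI : Mono (w hV b) := by rw [hw]; infer_instance
  let Good : Set (Spec Γ(X₂, V)) :=
    (hV.fromSpec ⁻¹' ⋃ M, (D M : Set X₂)) ∩ (q '' ((w hV b ≫ f).smoothLocus : Set _)ᶜ)ᶜ
  have hGood : IsOpen Good :=
    ((isOpen_iUnion fun M => (D M).2).preimage hV.fromSpec.continuous).inter
      (q.isClosedEmbedding.isClosedMap _ (w hV b ≫ f).smoothLocus.2.isClosed_compl).isOpen_compl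
  let U : X₂.Opens := hV.fromSpec ''ᵁ ⟨Good, hGood⟩
  have hTU : T ⊆ (U : Set X₂) := by
    intro t ht
    refine (hts ⟨t, ht⟩).mem_open U.2 ?_
    let M : S := ⟨Mt ⟨t, ht⟩, ⟨t, ht⟩, rfl⟩
    refine ⟨⟨M, (hS M).isPrime⟩, ⟨Set.mem_iUnion.2 ⟨M, hxD M⟩, ?_⟩, rfl⟩
    rintro ⟨p, hp, hpq⟩
    exact hp (hsm M p (congrArg hV.fromSpec hpq))
  refine ⟨U, hTU, ((w hV b ⁻¹ᵁ U : Scheme.Opens _) : Scheme.{u}), w hV b ∣_ U, ?_⟩
  have hk : IsClosedImmersion (w hV b ∣_ U) := by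
    rw [hw, morphismRestrict_comp]
    haveI : IsIso (hV.fromSpec ∣_ U) := by
      haveI : Surjective (hV.fromSpec ∣_ U) := ⟨fun y => by
        obtain ⟨s, _, hsy⟩ := y.2
        refine ⟨⟨s, show hV.fromSpec s ∈ U from hsy ▸ y.2⟩, Subtype.ext ?_⟩
        simpa using hsy⟩
      exact (isIso_iff_isOpenImmersion_and_epi_base _).2
        ⟨inferInstance, (TopCat.epi_iff_surjective _).2 (hV.fromSpec ∣_ U).surjective⟩
    haveI : IsClosedImmersion (q ∣_ hV.fromSpec ⁻¹ᵁ U) :=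
      IsZariskiLocalAtTarget.restrict ‹_› _
    exact (MorphismProperty.cancel_right_of_respectsIso (P := @IsClosedImmersion) _ _).2 ‹_›
  have hWι : (w hV b ∣_ U) ≫ U.ι ≫ f = (w hV b ⁻¹ᵁ U).ι ≫ w hV b ≫ f := by
    rw [morphismRestrict_ι_assoc]
  have hsmW : Smooth ((w hV b ∣_ U) ≫ U.ι ≫ f) := by
    rw [hWι, ← Scheme.Hom.smoothLocus_eq_top_iff, ← Scheme.Hom.preimage_smoothLocus_eq,
      ← top_le_iff]
    intro p _
    obtain ⟨s, ⟨-, hs⟩, hsp⟩ := (show w hV b ((w hV b ⁻¹ᵁ U).ι p) ∈ U from p.2)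
    by_contra hc
    exact hs ⟨(w hV b ⁻¹ᵁ U).ι p, hc, (hV.fromSpec.isOpenEmbedding.injective hsp).symm⟩
  -- the factorisation of `Z₂ ∩ V` through the subscheme
  let φ₀ : CommRingCat.of (Γ(X₂, V) ⧸ Ideal.span (Set.range b)) ⟶ Γ(Z₂, i₂ ⁻¹ᵁ V) :=
    CommRingCat.ofHom (Ideal.Quotient.lift _ (i₂.app V).hom fun y hy =>
      Ideal.span_le.2 (by rintro _ ⟨j, rfl⟩; exact hbI j) hy)
  have hφ₀ : (i₂ ⁻¹ᵁ V).toSpecΓ ≫ Spec.map φ₀ ≫ w hV b = (i₂ ⁻¹ᵁ V).ι ≫ i₂ := by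
    rw [hw, hq, ← Spec.map_comp_assoc,
      show CommRingCat.ofHom (Ideal.Quotient.mk (Ideal.span (Set.range b))) ≫ φ₀ = i₂.app V from
        CommRingCat.hom_ext (Ideal.Quotient.lift_comp_mk _ _ _)]
    exact toSpec_fromSpec i₂ hV
  have hUV : U ≤ V := by rintro _ ⟨s, -, rfl⟩; exact hV.range_fromSpec.le ⟨s, rfl⟩
  have hle : i₂ ⁻¹ᵁ U ≤ i₂ ⁻¹ᵁ V := fun z hz => hUV hz
  let m₀ := Z₂.homOfLE hle ≫ (i₂ ⁻¹ᵁ V).toSpecΓ ≫ Spec.map φ₀
  have hm₀ : m₀ ≫ w hV b = (i₂ ⁻¹ᵁ U).ι ≫ i₂ := by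
    simp only [m₀, Category.assoc, hφ₀, Scheme.homOfLE_ι_assoc]
  let m := IsOpenImmersion.lift (w hV b ⁻¹ᵁ U).ι m₀ (by
    rintro _ ⟨z, rfl⟩
    rw [Scheme.Opens.range_ι]
    show w hV b (m₀ z) ∈ U
    rw [← Scheme.Hom.comp_apply, hm₀, Scheme.Hom.comp_apply]
    exact z.2)
  have hm : m ≫ (w hV b ⁻¹ᵁ U).ι = m₀ := IsOpenImmersion.lift_fac _ _ _
  have hmk : m ≫ (w hV b ∣_ U) = i₂ ∣_ U := by
    rw [← cancel_mono U.ι, Category.assoc, morphismRestrict_ι, morphismRestrict_ι,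
      reassoc_of% hm, hm₀]
  have comm : m ≫ (w hV b ∣_ U) ≫ U.ι ≫ f = ((i₂ ⁻¹ᵁ U).ι ≫ g) ≫ i₁ := by
    rw [reassoc_of% hmk, morphismRestrict_ι_assoc, hsq, Category.assoc]
  refine ⟨m, hk, hmk, hsmW, ?_⟩
  -- the square is cartesian
  let P := pullback ((w hV b ∣_ U) ≫ U.ι ≫ f) i₁
  let a : P ⟶ Spec (CommRingCat.of (Γ(X₂, V) ⧸ Ideal.span (Set.range b))) :=
    pullback.fst _ _ ≫ (w hV b ⁻¹ᵁ U).ι
  have hac : a ≫ w hV b ≫ f = pullback.snd _ i₁ ≫ i₁ := by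
    simp only [a, Category.assoc]
    rw [← hWι, pullback.condition]
  let q' := a ≫ w hV b
  have hcov : TopologicalSpace.IsOpenCover fun M => q' ⁻¹ᵁ D M := by
    rw [TopologicalSpace.IsOpenCover, eq_top_iff]
    intro z _
    obtain ⟨s, ⟨hs, -⟩, hsz⟩ :=
      (show w hV b ((w hV b ⁻¹ᵁ U).ι (pullback.fst _ i₁ z)) ∈ U from
        (pullback.fst ((w hV b ∣_ U) ≫ U.ι ≫ f) i₁ z).2)
    obtain ⟨M, hM⟩ := Set.mem_iUnion.1 hs
    refine TopologicalSpace.Opens.mem_iSup.2 ⟨M, ?_⟩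
    show q' z ∈ D M
    have e : q' z = hV.fromSpec s := Eq.trans (by simp [q', a, Scheme.Hom.comp_apply]) hsz.symm
    rw [e]
    exact hM
  have hloc : ∀ M, ∃ l : ((q' ⁻¹ᵁ D M : Scheme.Opens _) : Scheme.{u}) ⟶ Z₂,
      l ≫ i₂ = (q' ⁻¹ᵁ D M).ι ≫ q' := by
    intro M
    have hs : Function.Surjective (i₂.app (D M)).hom := i₂.app_surjective _ (hD M)
    let ψ : Γ(Z₂, i₂ ⁻¹ᵁ D M) ⟶ Γ(P, q' ⁻¹ᵁ D M) :=
      CommRingCat.ofHom (RingHom.liftOfSurjective (i₂.app (D M)).hom hs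
        ⟨(q'.app (D M)).hom, fun y hy => hDfac M P a (pullback.snd _ i₁) hac y hy⟩)
    have hψ : i₂.app (D M) ≫ ψ = q'.app (D M) :=
      CommRingCat.hom_ext (RingHom.ext fun y => by
        simp only [ψ, CommRingCat.hom_comp, RingHom.comp_apply, CommRingCat.hom_ofHom]
        exact RingHom.liftOfSurjective_comp_apply _ hs _ y)
    refine ⟨(q' ⁻¹ᵁ D M).toSpecΓ ≫ Spec.map ψ ≫ ((hD M).preimage i₂).fromSpec, ?_⟩
    rw [Category.assoc, Category.assoc,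
      ← (hD M).SpecMap_appLE_fromSpec i₂ ((hD M).preimage i₂) le_rfl, ← Spec.map_comp_assoc,
      ← Scheme.Hom.app_eq_appLE, hψ]
    exact toSpec_fromSpec q' (hD M)
  choose l hl using hloc
  obtain ⟨s₀, hs₀⟩ := exists_factor_of_cover i₂ q' _ hcov l hl
  let s := IsOpenImmersion.lift (i₂ ⁻¹ᵁ U).ι s₀ (by
    rintro _ ⟨z, rfl⟩
    rw [Scheme.Opens.range_ι]
    show i₂ (s₀ z) ∈ U
    rw [← Scheme.Hom.comp_apply, hs₀]
    exact (pullback.fst ((w hV b ∣_ U) ≫ U.ι ≫ f) i₁ z).2)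
  have hs : s ≫ (i₂ ⁻¹ᵁ U).ι = s₀ := IsOpenImmersion.lift_fac _ _ _
  refine IsPullback.of_iso_pullback ⟨comm⟩
    { hom := pullback.lift m ((i₂ ⁻¹ᵁ U).ι ≫ g) comm
      inv := s
      hom_inv_id := ?_
      inv_hom_id := ?_ } (pullback.lift_fst _ _ _) (pullback.lift_snd _ _ _)
  · rw [← cancel_mono (i₂ ⁻¹ᵁ U).ι, ← cancel_mono i₂]
    simp only [Category.assoc]
    rw [reassoc_of% hs, hs₀]
    simp only [q', a, pullback.lift_fst_assoc, Category.assoc, Category.id_comp,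
      reassoc_of% hm, hm₀]
  · have h1 : s ≫ m ≫ (w hV b ⁻¹ᵁ U).ι = pullback.fst _ i₁ ≫ (w hV b ⁻¹ᵁ U).ι := by
      rw [hm, ← cancel_mono (w hV b), Category.assoc, hm₀, reassoc_of% hs, hs₀]
    refine pullback.hom_ext ?_ ?_
    · rw [Category.assoc, pullback.lift_fst, Category.id_comp, ← cancel_mono (w hV b ⁻¹ᵁ U).ι,
        Category.assoc, h1]
    · rw [Category.assoc, pullback.lift_snd, Category.id_comp, ← cancel_mono i₁]
      simp only [Category.assoc]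
      rw [← hsq, reassoc_of% hs, reassoc_of% hs₀]
      exact (Category.assoc _ _ _).trans hac

end

end Groth.Agent.H19.LiftSmooth.Main
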